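set_option autoImplicit false
namespace Cfsg.Agent.Lib.Helper6.TCD.J1a
noncomputable def GT (i : Nat) : Nat := Nat.land (Nat.shiftRight 0xff0000f51000f42000e93000e65000e63000e62000e50000e00000d74000d35000d10000cc5000c63000c40000c35000c32000c20000c04000be1000bc4000bb3000b53000ae3000ad4000ac0000a95000a83000a70000a30000a140009e40009e10009e00009d50009d30009b40009810009800009640009610009440009150009000008b00008500008250008220008130008020007e40007d00007c10007b30007b00007a50007940007910007900007710007700007630007600007530007510007430007350007330007250007210007200007030006f40006e40006e10006e00006d00006c50006c30006b40006b00006a00006950006930006830006650006510006500006440006340006330006310006240005f50005c10005830005800005750005430005400005330005050004f40004f30004f00004e50004e10004c50004c30004a40004940004900004840004640004610004600004440004410004400004340004330004240004200004110003e50003e00003d40003d30003d00003c30003c20003c10003b50003b30003a30003830003800003730003610003540003510003500003430003400003340003330003240003210003150003130003030002f40002f30002f10002f00002e50002e20002e00002d50002d40002d30002d00002c30002c00002b40002b00002a50002710002630002540002530002440002410002400002340002330002200002150002130002040002010001f30001f20001f00001e50001e40001e10001e00001d40001d30001d00001c40001c10001b10001b00001a40001a10001940001910001850001840001820001750001740001710001700001630001600001540001530001500001450001440001420001410001340001330001300001250001230001220001150001140001130001100001050000f40000f30000f00000e40000e00000d30000d00000c50000c30000b40000b10000b00000a50000a4000094000090000074000073000071000070000065000063000062000060000055000054000053000050000044000040000035000020000015000013000012000011000002000001000000000000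 (Nat.mul 24 (Nat.land i 1023))) 16777215
end Cfsg.Agent.Lib.Helper6.TCD.J1a
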