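set_option autoImplicit false
namespace Cfsg.Agent.Lib.Helper6.TCD.J1a
noncomputable def HR (i : Nat) : Nat := Nat.land (Nat.shiftRight 0x81300009030000803000070300009030000913000080300007130000703000060300007030000903000060300008030000803000071300008010000811000081100009010000703000080300007110000b0100006030000513000070300009110000913000091100007030000813000080300007130000a030000a03000050300008130000713000061300009110000a0300008010000601000090300004030000711000071100006130000a0300005030000a130000a010000404000081300008010000701000091100006010000a010000703000071300005010000511000090100008010000803000090300007010000711000060300007010000b110000a01000080100005030000901000060300009030000801000060300008110000a010000a1100008010000511000091300006010000803000071300006130000a11000050300005130000304000061100008130000a0100007030000611000061300007110000901000070100006030000a01000091100008030000b030000a0100004130000a1100002140000303000080100009030000501000090300008010000901000091100007110000501000090100004110000801000051300008030000901000081300003040000a130000b1100009010000a11000060100007030000503000090100004030000a01000080100005040000911000060100004010000911000080300006010000811000091300008110000a0100008110000a01000091100007010000713000070100009010000b01000090100006130000401000030300007030000613000040300004020000603000040300003020000204000040300001040000404000090100007010000a01000080300007010000513000070300005110000611000060100008010000a01000031300009130000302000090100008030000114000061100002030000a110000401000081100007010000811000080300003110000301000090300004130000a010000a1100007010000701000060300003130000303000060400005010000911000071100006130000a1100008010000811000070300002130000503000070100006010000202000041200005030000202000000400004020000811000070300006030000501000091300008010000113000010300003010000811000020100008110000611000020300008010000901000060300007110000112000010200005020000703000040100000030000211000021200001110000911000000200003010000101000020100000010000000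 (Nat.mul 28 (Nat.land i 1023))) 268435455
end Cfsg.Agent.Lib.Helper6.TCD.J1a
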