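set_option autoImplicit false
namespace Cfsg.Agent.Lib.Helper6.TCD.J1a
noncomputable def P0 (i : Nat) : Nat := Nat.land (Nat.shiftRight 0x1ff03824160d0784395c0fa84b45a4ce62401e8c27339de2f9793cdeaac6fba54ea356b01dc9e7b3de04da4c389b30177a4116856db91c2995e1f574c13dbf5fcd03cbf0eec63b2d57eb33f3310cfb393e1a8ea649b8dad751354d66a552c59494641956c8d38275d6f03aadcb0a47695100a8762ec9e71283a15c5d31925b0e32b918feb4222091cde21245603e6e8fc7a883c315b85e33a4870a54ab1dac35698d19e8766b2d566939b0d40af17af97a2e5cae0e82d418b1642b4d928985b18a1138243010044a94b90ca6a62a87ca29f508788a610e98934360da589a932b23c345a4523112171505850810a920f87a198c8be13379b0d066320ec2239138481e5c071641a1929138960b2390440091e0e86e071809852061288c42050e01030020a040180a018200001 (Nat.mul 9 (Nat.land i 511))) 511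
end Cfsg.Agent.Lib.Helper6.TCD.J1a
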