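set_option autoImplicit false
namespace Cfsg.Agent.Lib.Helper6.TCD.J1a
noncomputable def P1 (i : Nat) : Nat := Nat.land (Nat.shiftRight 0x213057a3a9eb04733edd903833cddefd7bc1d86c5813c210fa78ac1fcbe7e38d68e2773fd42bb6e4018cdb75c0554c876b0564bc4c20996804eb294af8482a5bc7b7cb31e477562d934b7542e9a8c2679c9a2d35ebd8dce7523958eb87035908df34ac5bacd41a716ad9462592ab933158f8e86b9413ca038ba54663449d55ee42cb85a4916c1f888c053949025c6d0f8e85a1e21cd8ad4ca2c7e933d15cf0d53c8d9a0356717d929b323109c68512fc5c4a399b4ca2f2da3d666b570eca2611919c54ab2f1088ca6491606e8a0f904c06f2627c961e11214623a11a5c4c9410a211c184695070861386ca617101fcfa141a1d83830381a8244716890264031068525d1613432551c93c1a492411486281e8281833128ac0c080b04416070e83c20090a83802050000c0802 (Nat.mul 9 (Nat.land i 511))) 511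
end Cfsg.Agent.Lib.Helper6.TCD.J1a
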