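set_option autoImplicit false
namespace Cfsg.Agent.Lib.Helper6.TCD.J1a
noncomputable def P2 (i : Nat) : Nat := Nat.land (Nat.shiftRight 0x212f57d3fe1104803ddc4e6753c5f8ef813d19ed47dafa0b077f335e6f67ebadbf0171c193ca45e40d7498773b12cb75a34562e77222d589351ad8f8c5602558279619dd60ce6cb58eae05cb95f0727cb11bc90373c17edc7431950b8643295aed32b7564f24c98d08cb2e385a4c747961aabb4e9bdd2a027285aeae3a32506db232a952444015d28d3331047eab411513642430f094b557b691ad81b2486aa5681fcf67d660c9348935b093e2f282f4d485320b966702f29cd2734e09cc0513b16c488c33a212e563f298403e1ca38c2a20f1c4444f269b0381b1616434910c968a42840a282e87311203e3d2a9e8f0330a17c9230341b45623091744a181d914262a2392c86372993016311d09842401c03c0e34148b41c09050183a15068581010060440801010000a03 (Nat.mul 9 (Nat.land i 511))) 511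
end Cfsg.Agent.Lib.Helper6.TCD.J1a
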