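set_option autoImplicit false
namespace Cfsg.Agent.Lib.Helper6.TCD.J1a
noncomputable def P3 (i : Nat) : Nat := Nat.land (Nat.shiftRight 0x211077d40213037fbadfad778ba9cb0277ba188d0603e578f56fb395b01713ddfcf650a7a0ce082c1136e763a59d8946d2556298692a1d2ed3f2cdc2ab7db44f2c1479dd72cd46b55f0a4583f0ea7f5f33cde6e4837170f07a1ad16bf44a69e6933b32cc863433c8c4dd2e9f1c8ee61961ac8527b7958c95eb8dcc4a24a8090466d95888a92a90d6e423325cfac51e94d74d34cb615c704e2d1b23c460d524396a1c8663f1933194c8630bd3ec235138a0bb590b56cb5300f8563057934bc2532890b63611a1c82aa518814ca752a388a1e511a03a9d13870d8343d068b2194891c30811405d14884220c2a82400b0287b3c04ce873389b4d26708970a25207984be0e2d12cae372a02c982920028123a038ec701b188b8542113014441f0203020080b0481a020080c0c00 (Nat.mul 9 (Nat.land i 511))) 511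
end Cfsg.Agent.Lib.Helper6.TCD.J1a
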