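set_option autoImplicit false
namespace Cfsg.Agent.Lib.Helper6.TCD.J1a
noncomputable def P5 (i : Nat) : Nat := Nat.land (Nat.shiftRight 0x20cfe81c25ccf483c02030269c2198ed6330da0d1612fdd5046f33960dc54ad5f8c8723d576b94ec154aeb50b5d2e9648bcdacf0412c97c9471374fa877f9e9f0f9623c902fd551e118ec39bece4cf7d3dd80c17b365346c749ddd06d34a11dc6658b6966f140224ce5f2eb2dde5744255ca504e1c1c64e27931cea332af4b69870b814cd83e165be79239147cc93f1595ca76a0f476b63436d9aaf1d22daa933db4920ca5d1d8623863b14dea2388b970bc169296e8356ad1366415188bc605618556544c969242154228865c201103ca44fa808c9e131a83a23479351c522a86072530ba350c35429fc82740f85078340a870ea25091b8d6110d18c2c101212c602724034b00c1b9449232050ac16421f8a46636030bc58280282044200c86c060e0084c1e02048100e00 (Nat.mul 9 (Nat.land i 511))) 511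
end Cfsg.Agent.Lib.Helper6.TCD.J1a
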