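set_option autoImplicit false
namespace Cfsg.Agent.Lib.Helper6.TCD.J1a
noncomputable def Q11 (i : Nat) : Nat := Nat.land (Nat.shiftRight 0x1deeb4e94db0494f09608cd73a01d46457b98fa84489e03a65173b20ae91ab785431638f415064b118d8b97e29ce4fe502a2005c0820c6cf15f219925b0f9108abd42941bae5570e96e1c842cda097100a49cb2378dd8abc5295562126a9c582412b1a5c8f5508e1e8ed119f186ee0db6cfc0601961f66b69250c4396e12932880bbfd390319b687c4f5b328eebf3b204b20c559ccea3f4924c78e0642ec5a436a3d9c27a1d9019eba6b1e51e014615c0ecc6fb4580c231a895ae32641c4c5408890689b3d974646605b18e82b740554613142d5a6670410a024836be8d49f552682c8b7c3ddfa8a46a392acb6b86a125a41225e45f0c025f22c302b0d0900783428054389ca4a9268bd607f71364e01e622d043026701060a61112cc298373c1e60e23808bcb828a903200 (Nat.mul 9 (Nat.land i 511))) 511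
end Cfsg.Agent.Lib.Helper6.TCD.J1a
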