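set_option autoImplicit false
namespace Cfsg.Agent.Lib.Helper6.TCD.J1a
noncomputable def Q2 (i : Nat) : Nat := Nat.land (Nat.shiftRight 0x20ce6823d5d4f482b19910784b7952cc6140df47280371fcc3583c610d976a84ccd75ab4dc6e978409f6827240596ec7e301b46c4c36d54af739e1cad13cbbde67b683f59cba2fa117a692b9dd0ef762315f0ff4d2fc5c9d28294e66d4b3756c915bacdac813428ddcbe64b814ce85a22926b971290984e37aed382a570c500eb4925cf4df4a22ca4c1441119a5459234705a1ab5178672d9f82e7c692a1947d48051f23c792b118653233d4083383d8dc6a63ae136124c91d622d44a143c5e0e2b4c65d308609a952c8843e561b8e4c0714f13c4c51068ecea7f2438496d82c29c8a421f170e83d12028803f060e9aa361a1d86425511285e8f3589c0c53310ac2cab08918164320a7c441d11a38aa104306c401518068260e148b03201248145003198200e0f000240404 (Nat.mul 9 (Nat.land i 511))) 511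
end Cfsg.Agent.Lib.Helper6.TCD.J1a
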