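set_option autoImplicit false
namespace Cfsg.Agent.Lib.Helper6.TCD.J1a
noncomputable def Q3 (i : Nat) : Nat := Nat.land (Nat.shiftRight 0x1562f83c0e129b3eacd98c16a0fc76826bb4188cd3ca5a049570b3de28d242c8208a4eb39381e5d8ce00922196d5cf03dbec961c15a88b2a12e065a28f7ab7cdcef8425cfee8022a1d8e76930ca63c7527974c0250b570763081c307e272bcd6144a3660c91649b58ef213a694a86552404ab10d1793eee7bb6d9658650dca8de6315c0ad30e98860ff5319c8488122d872401ec11f023323a5ccb9112d5486f56a01b0be62a8c1e4f71be8e293459d02e6c5e934ea117a00d604c3e3708c6928265f2983402940fc7e83424da14881c0456a9c0a4ed098da0a721532168eb07144d4fe4619508327b0c402bc1a11d84a700175123e56375ac771aafc58552498010630aa145c417102d6ee4548e0f00c798590e5f109583e8313008507a80819021b729991c442d1cc7409 (Nat.mul 9 (Nat.land i 511))) 511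
end Cfsg.Agent.Lib.Helper6.TCD.J1a
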