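set_option autoImplicit false
namespace Cfsg.Agent.Lib.Helper6.TCD.J1a
noncomputable def Q4 (i : Nat) : Nat := Nat.land (Nat.shiftRight 0x1e48d83bc598d25abb0df006a2300689729f184806831c5878124260cee36bc0230235110865f2db79f6c1189385e9f0339840a26d97156ac528d03eff68c11a6f73914987051095ccab37b0105a0d66be5c83845abcd68729978feb13393e06b2642d1701d5f07876d86ca29529b381c5ae7d3b370540b700493a2854014006225968201932204dc90478a610fe5faa9f8885e1ec823d230ad24f85c9b148fa43134d2f42628ca0612eb3d4ca780a45de7e5ebacf23e5b829929322a60e859742e8e6da73a58c03c650041c075db3892755b388f4774b898a2360a20cc6ea7483d0a3f201a108585680872c01812064d6128d5c637708898af5412851c9c0b92866f30d0b996dd6aab9601b0e08d2813138542c470c279da9521155880c5019810092a37d34c67e8e8ac99 (Nat.mul 9 (Nat.land i 511))) 511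
end Cfsg.Agent.Lib.Helper6.TCD.J1a
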