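import Cfsg.Agent.Lib.Helper6.TC11
import Cfsg.Agent.Lib.Helper6.TCD.J1a.Par
set_option autoImplicit false
set_option maxRecDepth 1000000
set_option Elab.async false
open Cfsg.Agent.Lib.Helper6.TC
namespace Cfsg.Agent.Lib.Helper6.TCD.J1a
theorem chkP0 : chkCol P0 P0 266 = true := by decide +kernel
theorem chkP1 : chkCol P1 P2 266 = true := by decide +kernel
theorem chkP2 : chkCol P2 P1 266 = true := by decide +kernel
theorem chkP3 : chkCol P3 P4 266 = true := by decide +kernel
theorem chkP4 : chkCol P4 P3 266 = true := by decide +kernel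
theorem chkP5 : chkCol P5 P5 266 = true := by decide +kernel
end Cfsg.Agent.Lib.Helper6.TCD.J1a
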