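import Cfsg.Agent.Lib.Helper6.TC11
import Cfsg.Agent.Lib.Helper6.TCD.J1a.Par
set_option autoImplicit false
set_option maxRecDepth 1000000
set_option Elab.async false
open Cfsg.Agent.Lib.Helper6.TC
namespace Cfsg.Agent.Lib.Helper6.TCD.J1a
theorem chkT : chkTree px GT 6 266 = true := by decide +kernel
theorem chkH0 : Nat.beq (H0 0) 0 = true := by decide +kernel
theorem chkH1 : Nat.beq (H1 0) 0 = true := by decide +kernel
theorem chkRk : chkRank isRoot rnk mv 266 = true := by decide +kernel
theorem chkCnt0 : cntLab lab 0 266 = 1 := by decide +kernel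
theorem chkCnt1 : cntLab lab 1 266 = 132 := by decide +kernel
theorem chkCnt2 : cntLab lab 2 266 = 12 := by decide +kernel
theorem chkCnt3 : cntLab lab 3 266 = 110 := by decide +kernel
theorem chkCnt4 : cntLab lab 4 266 = 11 := by decide +kernel
end Cfsg.Agent.Lib.Helper6.TCD.J1a
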