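set_option autoImplicit false
namespace Cfsg.Agent.Lib.Helper6.TCD.J1a
noncomputable def P4 (i : Nat) : Nat := Nat.land (Nat.shiftRight 0x20b09843a5cee6823f1e10681bb602c669c1decc9773b1e8bb5aab9febc7daa1b0e1813f9b2fa72275faa94f3bdaae879a8958be4bb7d028680295947b4436da4f8613c99876591d54074719cd18f9539c1a0f75c30d3ef5362259abd489a4d0826b1adbac731a15e2a16a16128da2a154a6c82b93dd69a38ba8988372ad90edc47389bce05a1f486bf67949967f5c8f56e3c2d2bd483b1d0e080376235d1aaa1a11da233672cd8a31181e85e8460b005c495d1bc5a4e1623cbeb1582b44c6712985562a2e88c8aa610a59261f450a0526d519b8c41d11271369921260a29549240b21b3c19916800b060f81510170fc483c9dc266439048d43632844383f2583cc05e2d8342056061409a4a0a11888411f01c7235190185609138900a0a0f06832080b8041c0b010100600 (Nat.mul 9 (Nat.land i 511))) 511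
end Cfsg.Agent.Lib.Helper6.TCD.J1a
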